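import Cfsg.Agent.H0.EH2P.D
set_option maxRecDepth 100000
set_option Elab.async false
namespace H0.EH2P
open H0 BN H2M
theorem a0 : allL (H2P.tA D cs) ((TA.drop 0).take 2) = true := by decide +kernel
theorem a8 : allL (H2P.tA D cs) ((TA.drop 8).take 2) = true := by decide +kernel
theorem b0 : allL (H2P.tB D cs) ((TB.drop 0).take 1) = true := by decide +kernel
theorem b4 : allL (H2P.tB D cs) ((TB.drop 4).take 1) = true := by decide +kernel
theorem b8 : allL (H2P.tB D cs) ((TB.drop 8).take 1) = true := by decide +kernel
theorem b12 : allL (H2P.tB D cs) ((TB.drop 12).take 1) = true := by decide +kernel
theorem c1 : allL (H2P.tC D Z 0x8dc600000000000000000000000002d503200f683434900000000000000000000000004c087800527c111c3800000000000041055c09185600000041055c327927000000000000000000000000000000000000000000000000000000000000000000) ((((pcE 2 Dat.l7 W).zip MU).drop 1).take 1) = true := by decide +kernel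
theorem c5 : allL (H2P.tC D Z 0x8dc600000000000000000000000002d503200f683434900000000000000000000000004c087800527c111c3800000000000041055c09185600000041055c327927000000000000000000000000000000000000000000000000000000000000000000) ((((pcE 2 Dat.l7 W).zip MU).drop 5).take 1) = true := by decide +kernel
theorem c9 : allL (H2P.tC D Z 0x8dc600000000000000000000000002d503200f683434900000000000000000000000004c087800527c111c3800000000000041055c09185600000041055c327927000000000000000000000000000000000000000000000000000000000000000000) ((((pcE 2 Dat.l7 W).zip MU).drop 9).take 1) = true := by decide +kernel
theorem c13 : allL (H2P.tC D Z 0x8dc600000000000000000000000002d503200f683434900000000000000000000000004c087800527c111c3800000000000041055c09185600000041055c327927000000000000000000000000000000000000000000000000000000000000000000) ((((pcE 2 Dat.l7 W).zip MU).drop 13).take 1) = true := by decide +kernel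
theorem c17 : allL (H2P.tC D Z 0x8dc600000000000000000000000002d503200f683434900000000000000000000000004c087800527c111c3800000000000041055c09185600000041055c327927000000000000000000000000000000000000000000000000000000000000000000) ((((pcE 2 Dat.l7 W).zip MU).drop 17).take 1) = true := by decide +kernel
theorem c21 : allL (H2P.tC D Z 0x8dc600000000000000000000000002d503200f683434900000000000000000000000004c087800527c111c3800000000000041055c09185600000041055c327927000000000000000000000000000000000000000000000000000000000000000000) ((((pcE 2 Dat.l7 W).zip MU).drop 21).take 1) = true := by decide +kernel
theorem c25 : allL (H2P.tC D Z 0x8dc600000000000000000000000002d503200f683434900000000000000000000000004c087800527c111c3800000000000041055c09185600000041055c327927000000000000000000000000000000000000000000000000000000000000000000) ((((pcE 2 Dat.l7 W).zip MU).drop 25).take 1) = true := by decide +kernel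
end H0.EH2P
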