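import Cfsg.Agent.H0.EH2P.D
set_option maxRecDepth 100000
set_option Elab.async false
namespace H0.EH2P
open H0 BN H2M
theorem a4 : allL (H2P.tA D cs) ((TA.drop 4).take 2) = true := by decide +kernel
theorem a12 : allL (H2P.tA D cs) ((TA.drop 12).take 2) = true := by decide +kernel
theorem b2 : allL (H2P.tB D cs) ((TB.drop 2).take 1) = true := by decide +kernel
theorem b6 : allL (H2P.tB D cs) ((TB.drop 6).take 1) = true := by decide +kernel
theorem b10 : allL (H2P.tB D cs) ((TB.drop 10).take 1) = true := by decide +kernel
theorem b14 : allL (H2P.tB D cs) ((TB.drop 14).take 1) = true := by decide +kernel
theorem c3 : allL (H2P.tC D Z 0x8dc600000000000000000000000002d503200f683434900000000000000000000000004c087800527c111c3800000000000041055c09185600000041055c327927000000000000000000000000000000000000000000000000000000000000000000) ((((pcE 2 Dat.l7 W).zip MU).drop 3).take 1) = true := by decide +kernel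
theorem c7 : allL (H2P.tC D Z 0x8dc600000000000000000000000002d503200f683434900000000000000000000000004c087800527c111c3800000000000041055c09185600000041055c327927000000000000000000000000000000000000000000000000000000000000000000) ((((pcE 2 Dat.l7 W).zip MU).drop 7).take 1) = true := by decide +kernel
theorem c11 : allL (H2P.tC D Z 0x8dc600000000000000000000000002d503200f683434900000000000000000000000004c087800527c111c3800000000000041055c09185600000041055c327927000000000000000000000000000000000000000000000000000000000000000000) ((((pcE 2 Dat.l7 W).zip MU).drop 11).take 1) = true := by decide +kernel
theorem c15 : allL (H2P.tC D Z 0x8dc600000000000000000000000002d503200f683434900000000000000000000000004c087800527c111c3800000000000041055c09185600000041055c327927000000000000000000000000000000000000000000000000000000000000000000) ((((pcE 2 Dat.l7 W).zip MU).drop 15).take 1) = true := by decide +kernel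
theorem c19 : allL (H2P.tC D Z 0x8dc600000000000000000000000002d503200f683434900000000000000000000000004c087800527c111c3800000000000041055c09185600000041055c327927000000000000000000000000000000000000000000000000000000000000000000) ((((pcE 2 Dat.l7 W).zip MU).drop 19).take 1) = true := by decide +kernel
theorem c23 : allL (H2P.tC D Z 0x8dc600000000000000000000000002d503200f683434900000000000000000000000004c087800527c111c3800000000000041055c09185600000041055c327927000000000000000000000000000000000000000000000000000000000000000000) ((((pcE 2 Dat.l7 W).zip MU).drop 23).take 1) = true := by decide +kernel
theorem c27 : allL (H2P.tC D Z 0x8dc600000000000000000000000002d503200f683434900000000000000000000000004c087800527c111c3800000000000041055c09185600000041055c327927000000000000000000000000000000000000000000000000000000000000000000) ((((pcE 2 Dat.l7 W).zip MU).drop 27).take 1) = true := by decide +kernel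
end H0.EH2P
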