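import Cfsg.Agent.H0.EH2P.D
set_option maxRecDepth 100000
set_option Elab.async false
namespace H0.EH2P
open H0 BN H2M
theorem a6 : allL (H2P.tA D cs) ((TA.drop 6).take 2) = true := by decide +kernel
theorem a14 : allL (H2P.tA D cs) ((TA.drop 14).take 2) = true := by decide +kernel
theorem b3 : allL (H2P.tB D cs) ((TB.drop 3).take 1) = true := by decide +kernel
theorem b7 : allL (H2P.tB D cs) ((TB.drop 7).take 1) = true := by decide +kernel
theorem b11 : allL (H2P.tB D cs) ((TB.drop 11).take 1) = true := by decide +kernel
theorem c0 : allL (H2P.tC D Z 0x8dc600000000000000000000000002d503200f683434900000000000000000000000004c087800527c111c3800000000000041055c09185600000041055c327927000000000000000000000000000000000000000000000000000000000000000000) ((((pcE 2 Dat.l7 W).zip MU).drop 0).take 1) = true := by decide +kernel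
theorem c4 : allL (H2P.tC D Z 0x8dc600000000000000000000000002d503200f683434900000000000000000000000004c087800527c111c3800000000000041055c09185600000041055c327927000000000000000000000000000000000000000000000000000000000000000000) ((((pcE 2 Dat.l7 W).zip MU).drop 4).take 1) = true := by decide +kernel
theorem c8 : allL (H2P.tC D Z 0x8dc600000000000000000000000002d503200f683434900000000000000000000000004c087800527c111c3800000000000041055c09185600000041055c327927000000000000000000000000000000000000000000000000000000000000000000) ((((pcE 2 Dat.l7 W).zip MU).drop 8).take 1) = true := by decide +kernel
theorem c12 : allL (H2P.tC D Z 0x8dc600000000000000000000000002d503200f683434900000000000000000000000004c087800527c111c3800000000000041055c09185600000041055c327927000000000000000000000000000000000000000000000000000000000000000000) ((((pcE 2 Dat.l7 W).zip MU).drop 12).take 1) = true := by decide +kernel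
theorem c16 : allL (H2P.tC D Z 0x8dc600000000000000000000000002d503200f683434900000000000000000000000004c087800527c111c3800000000000041055c09185600000041055c327927000000000000000000000000000000000000000000000000000000000000000000) ((((pcE 2 Dat.l7 W).zip MU).drop 16).take 1) = true := by decide +kernel
theorem c20 : allL (H2P.tC D Z 0x8dc600000000000000000000000002d503200f683434900000000000000000000000004c087800527c111c3800000000000041055c09185600000041055c327927000000000000000000000000000000000000000000000000000000000000000000) ((((pcE 2 Dat.l7 W).zip MU).drop 20).take 1) = true := by decide +kernel
theorem c24 : allL (H2P.tC D Z 0x8dc600000000000000000000000002d503200f683434900000000000000000000000004c087800527c111c3800000000000041055c09185600000041055c327927000000000000000000000000000000000000000000000000000000000000000000) ((((pcE 2 Dat.l7 W).zip MU).drop 24).take 1) = true := by decide +kernel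
end H0.EH2P
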