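import Cfsg.Agent.H0.EH2P.K0
import Cfsg.Agent.H0.EH2P.K1
import Cfsg.Agent.H0.EH2P.K2
import Cfsg.Agent.H0.EH2P.K3
set_option maxRecDepth 100000
set_option Elab.async false
namespace H0.EH2P
open H0 BN H2M
theorem h1 : H2P.fin D cs = true := by decide +kernel
theorem h2 : D.okH Dat.l7 = true := by decide +kernel
theorem hA : ∀ T ∈ TA, H2P.tA D cs T = true := (all_take_done (all_take_step (all_take_step (all_take_step (all_take_step (all_take_step (all_take_step (all_take_step (all_take_step (all_take_zero _ TA) (allL_spec a0)) (allL_spec a2)) (allL_spec a4)) (allL_spec a6)) (allL_spec a8)) (allL_spec a10)) (allL_spec a12)) (allL_spec a14)) (by decide +kernel))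
theorem hB : ∀ T ∈ TB, H2P.tB D cs T = true := (all_take_done (all_take_step (all_take_step (all_take_step (all_take_step (all_take_step (all_take_step (all_take_step (all_take_step (all_take_step (all_take_step (all_take_step (all_take_step (all_take_step (all_take_step (all_take_step (all_take_zero _ TB) (allL_spec b0)) (allL_spec b1)) (allL_spec b2)) (allL_spec b3)) (allL_spec b4)) (allL_spec b5)) (allL_spec b6)) (allL_spec b7)) (allL_spec b8)) (allL_spec b9)) (allL_spec b10)) (allL_spec b11)) (allL_spec b12)) (allL_spec b13)) (allL_spec b14)) (by decide +kernel))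
theorem hC : ∀ T ∈ (pcE 2 Dat.l7 W).zip MU, H2P.tC D Z 0x8dc600000000000000000000000002d503200f683434900000000000000000000000004c087800527c111c3800000000000041055c09185600000041055c327927000000000000000000000000000000000000000000000000000000000000000000 T = true := (all_take_done (all_take_step (all_take_step (all_take_step (all_take_step (all_take_step (all_take_step (all_take_step (all_take_step (all_take_step (all_take_step (all_take_step (all_take_step (all_take_step (all_take_step (all_take_step (all_take_step (all_take_step (all_take_step (all_take_step (all_take_step (all_take_step (all_take_step (all_take_step (all_take_step (all_take_step (all_take_step (all_take_step (all_take_step (all_take_zero _ ((pcE 2 Dat.l7 W).zip MU)) (allL_spec c0)) (allL_spec c1)) (allL_spec c2)) (allL_spec c3)) (allL_spec c4)) (allL_spec c5)) (allL_spec c6)) (allL_spec c7)) (allL_spec c8)) (allL_spec c9)) (allL_spec c10)) (allL_spec c11)) (allL_spec c12)) (allL_spec c13)) (allL_spec c14)) (allL_spec c15)) (allL_spec c16)) (allL_spec c17)) (allL_spec c18)) (allL_spec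 c19)) (allL_spec c20)) (allL_spec c21)) (allL_spec c22)) (allL_spec c23)) (allL_spec c24)) (allL_spec c25)) (allL_spec c26)) (allL_spec c27)) (by decide +kernel))
def Wl : List (List ℕ) := [[0], [1], [2, 5, 6], [2, 3, 4, 6], [0, 1, 2, 4, 5, 6], [2, 5, 6], [2, 3, 4, 6], [0, 1, 2, 4, 5, 6]]
def l : List ℕ := [0xbd0e620e2d7a556405c5ab0529ae00, 0xbcaaa35a2c7b9102512d3cc6b28440, 0xb913494de28b9ac2a2aa38d7634020, 0xbc2ac94df689db459923728a241020, 0xba8e594de88d5aba09c44c186b0c20, 0xb913494de28b9ac2a2aa38d7634020, 0xbc2ac94df689db459923728a241020, 0xba8e594de88d5aba09c44c186b0c20]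
def ls : List (ℕ × List ℕ) := [(1, [0xbd0e620e2d7a556405c5ab0529ae00, 0xbcaaa35a2c7b9102512d3cc6b28440, 0xb913494de28b9ac2a2aa38d7634020, 0xbc2ac94df689db459923728a241020, 0xba8e594de88d5aba09c44c186b0c20]), (2, [0xb913494de28b9ac2a2aa38d7634020, 0xbc2ac94df689db459923728a241020, 0xba8e594de88d5aba09c44c186b0c20])]
theorem hZ : Z = TA.flatMap (·.2.2) ++ TB.flatMap (·.2.2.2) := eq_of_beq (by decide +kernel)
theorem z6 : 128 ≤ H6.chain ls (H6.inL (Wl.map D.evI)) := (eq_of_beq (by decide +kernel) : l = Wl.map D.evI) ▸ by decide +kernel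
end H0.EH2P
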